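import Cfsg.Agent.Lib.FreeRealize.Words
import Mathlib.GroupTheory.FreeGroup.NielsenSchreier
import Mathlib.GroupTheory.SemidirectProduct
import Mathlib.GroupTheory.GroupAction.Defs
import Mathlib.GroupTheory.Coset.Card
import Mathlib.GroupTheory.OrderOfElement

/-
A group `K` acting on a directed graph gives the group of pairs (homotopy class of a path from the
base vertex to its translate, element of `K`): a free normal subgroup with quotient inside `K`, and
finite subgroups are conjugate into the stabiliser of the base vertex.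
Main results: `Graph`, `Graph.grp`, `grp_kernel`, `exists_conj_finite`, `fixed_word`.
-/

set_option autoImplicit false

open scoped Classical

namespace Cfsg.Agent.FreeRealize

open FreeGroup

/-- A directed graph with a group acting, given by source and target maps. -/
structure Graph (K V E : Type*) [Group K] [MulAction K V] [MulAction K E] where
  src : E → V
  tgt : E → V
  src_smul : ∀ (k : K) (e : E), src (k • e) = k • src e
  tgt_smul : ∀ (k : K) (e : E), tgt (k • e) = k • tgt e

namespace Graph

variable {K V E : Type*} [Group K] [MulAction K V] [MulAction K E] (Γ : Graph K V E)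

/-- Start of a letter. -/
def st (x : E × Bool) : V := if x.2 then Γ.src x.1 else Γ.tgt x.1

/-- End of a letter. -/
def en (x : E × Bool) : V := if x.2 then Γ.tgt x.1 else Γ.src x.1

/-- The word is a path. -/
def Path : V → List (E × Bool) → V → Prop
  | u, [], v => u = v
  | u, x :: L, v => Γ.st x = u ∧ Path (Γ.en x) L v

theorem path_append {L M : List (E × Bool)} {u v : V} :
    Γ.Path u (L ++ M) v ↔ ∃ w, Γ.Path u L w ∧ Γ.Path w M v := by
  induction L generalizing u with
  | nil => simp [Path]
  | cons x L ih => simp [Path, ih, and_assoc]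

theorem path_unique {L : List (E × Bool)} {u v v' : V} (h : Γ.Path u L v)
    (h' : Γ.Path u L v') : v = v' := by
  induction L generalizing u with
  | nil => exact h.symm.trans h'
  | cons x L ih => exact ih h.2 h'.2

theorem st_flip (x : E) (b : Bool) : Γ.st (x, !b) = Γ.en (x, b) := by
  cases b <;> simp [st, en]

theorem en_flip (x : E) (b : Bool) : Γ.en (x, !b) = Γ.st (x, b) := by
  cases b <;> simp [st, en]

theorem path_red {L M : List (E × Bool)} (hr : Red L M) {u v : V} (h : Γ.Path u L v) :
    Γ.Path u M v := by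
  induction hr with
  | refl => exact h
  | tail _ hs ih =>
    cases hs
    rename_i A B x b
    obtain ⟨w, h1, h2⟩ := Γ.path_append.1 ih
    obtain ⟨h3, h4, h5⟩ := h2
    rw [Γ.en_flip, h3] at h5
    exact Γ.path_append.2 ⟨w, h1, h5⟩

theorem path_invRev {L : List (E × Bool)} {u v : V} (h : Γ.Path u L v) :
    Γ.Path v (invRev L) u := by
  induction L generalizing u with
  | nil => exact h.symm
  | cons x L ih =>
    rw [invRev_cons, Γ.path_append]
    exact ⟨Γ.en x, ih h.2, Γ.st_flip x.1 x.2, (Γ.en_flip x.1 x.2).trans h.1⟩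

/-- The class of the free group element contains a path from `u` to `v`. -/
def Conn (u : V) (w : FreeGroup E) (v : V) : Prop := Γ.Path u w.toWord v

theorem conn_mk {L : List (E × Bool)} {u v : V} (h : Γ.Path u L v) : Γ.Conn u (FreeGroup.mk L) v := by
  unfold Conn
  rw [toWord_mk]
  exact Γ.path_red reduce.red h

theorem conn_one {u v : V} : Γ.Conn u 1 v ↔ u = v := by simp [Conn, Path]

theorem conn_mul {u v w : V} {a b : FreeGroup E} (h : Γ.Conn u a v) (h' : Γ.Conn v b w) :
    Γ.Conn u (a * b) w := by
  have := Γ.conn_mk (Γ.path_append.2 ⟨v, h, h'⟩)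
  rwa [← mul_mk, mk_toWord, mk_toWord] at this

theorem conn_inv {u v : V} {a : FreeGroup E} (h : Γ.Conn u a v) : Γ.Conn v a⁻¹ u := by
  unfold Conn
  rw [toWord_inv]
  exact Γ.path_invRev h

theorem conn_unique {u v v' : V} {a : FreeGroup E} (h : Γ.Conn u a v) (h' : Γ.Conn u a v') :
    v = v' := Γ.path_unique h h'

theorem path_smul (k : K) {L : List (E × Bool)} {u v : V} (h : Γ.Path u L v) :
    Γ.Path (k • u) (L.map fun y => (k • y.1, y.2)) (k • v) := by
  induction L generalizing u with
  | nil => exact congrArg (k • ·) h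
  | cons x L ih =>
    obtain ⟨x, b⟩ := x
    refine ⟨?_, ?_⟩
    · rw [← h.1]; cases b <;> simp [st, src_smul, tgt_smul]
    · have := ih h.2
      cases b <;> simpa [en, src_smul, tgt_smul] using this

variable (K E) in
/-- The action on the free group on the edges. -/
def act : K →* MulAut (FreeGroup E) where
  toFun k := freeGroupCongr (MulAction.toPerm k)
  map_one' := by
    refine MulEquiv.ext fun x => ?_
    show FreeGroup.map (MulAction.toPerm (1 : K)) x = x
    rw [show ((MulAction.toPerm (1 : K) : Equiv.Perm E) : E → E) = id from funext (one_smul K)]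
    exact FreeGroup.map.id x
  map_mul' a b := by
    refine MulEquiv.ext fun x => ?_
    show FreeGroup.map (MulAction.toPerm (a * b)) x =
      FreeGroup.map (MulAction.toPerm a) (FreeGroup.map (MulAction.toPerm b) x)
    rw [FreeGroup.map.comp]
    congr 1
    exact congrArg FreeGroup.map (funext fun e => mul_smul a b e)

theorem act_apply (k : K) (x : FreeGroup E) :
    act K E k x = FreeGroup.map (fun e : E => k • e) x := rfl

theorem toWord_act (k : K) (x : FreeGroup E) :
    (act K E k x).toWord = x.toWord.map fun y => (k • y.1, y.2) := by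
  rw [act_apply, toWord_map (MulAction.injective k)]

theorem norm_act (k : K) (x : FreeGroup E) : FreeGroup.norm (act K E k x) = FreeGroup.norm x := by
  rw [act_apply, norm_map (MulAction.injective k)]

theorem exponentSum_act (k : K) (x : FreeGroup E) :
    exponentSum (act K E k x) = exponentSum x := by
  rw [act_apply, exponentSum_map]

theorem conn_act (k : K) {u v : V} {a : FreeGroup E} (h : Γ.Conn u a v) :
    Γ.Conn (k • u) (act K E k a) (k • v) := by
  unfold Conn
  rw [toWord_act]
  exact Γ.path_smul k h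

/-- The group of based paths to translates of the base vertex. -/
def grp (v₀ : V) : Subgroup (FreeGroup E ⋊[act K E] K) where
  carrier := {g | Γ.Conn v₀ g.left (g.right • v₀)}
  one_mem' := by simp [conn_one]
  mul_mem' := by
    intro a b ha hb
    show Γ.Conn v₀ (a.left * act K E a.right b.left) ((a.right * b.right) • v₀)
    rw [mul_smul]
    exact Γ.conn_mul ha (Γ.conn_act a.right hb)
  inv_mem' := by
    intro a ha
    show Γ.Conn v₀ (act K E a.right⁻¹ a.left⁻¹) (a.right⁻¹ • v₀)
    have := Γ.conn_act a.right⁻¹ (Γ.conn_inv ha)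
    rwa [inv_smul_smul] at this

theorem mem_grp {v₀ : V} {g : FreeGroup E ⋊[act K E] K} :
    g ∈ Γ.grp v₀ ↔ Γ.Conn v₀ g.left (g.right • v₀) := Iff.rfl

/-- The projection to the acting group. -/
def proj (v₀ : V) : ↥(Γ.grp v₀) →* K :=
  SemidirectProduct.rightHom.comp (Γ.grp v₀).subtype

theorem grp_kernel (v₀ : V) :
    IsFreeGroup ↥(Γ.proj v₀).ker ∧
      ((Γ.proj v₀).ker).index ∣ Nat.card K := by
  refine ⟨?_, ?_⟩
  · let f : ↥(Γ.proj v₀).ker →* FreeGroup E := MonoidHom.mk' (fun n => n.1.1.left) fun a b => by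
      show a.1.1.left * act K E a.1.1.right b.1.1.left = _
      have ha : a.1.1.right = 1 := a.2
      rw [ha, _root_.map_one]
      rfl
    have hf : Function.Injective f := by
      intro a b h
      refine Subtype.ext (Subtype.ext (SemidirectProduct.ext h ?_))
      have ha : a.1.1.right = 1 := a.2
      have hb : b.1.1.right = 1 := b.2
      rw [ha, hb]
    exact IsFreeGroup.ofMulEquiv (MonoidHom.ofInjective hf).symm
  · rw [Subgroup.index_ker]
    exact Subgroup.card_subgroup_dvd_card _

/-- Finite subgroups are conjugate into the stabiliser of the base vertex. -/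
theorem exists_conj_finite [MulAction.IsPretransitive K V] (v₀ : V)
    (H : Subgroup ↥(Γ.grp v₀)) [Finite H] :
    ∃ g : ↥(Γ.grp v₀), ∀ h ∈ H, ((g * h * g⁻¹ : ↥(Γ.grp v₀)) : FreeGroup E ⋊[act K E] K).left = 1 ∧
      ((g * h * g⁻¹ : ↥(Γ.grp v₀)) : FreeGroup E ⋊[act K E] K).right • v₀ = v₀ := by
  suffices hs : ∃ q : ↥(Γ.grp v₀), ∀ h ∈ H, (h * q : ↥(Γ.grp v₀)).1.left = q.1.left by
    obtain ⟨q, hq⟩ := hs
    refine ⟨q⁻¹, fun h hh => ?_⟩
    have h1 : ((q⁻¹ * h * q⁻¹⁻¹ : ↥(Γ.grp v₀)) : FreeGroup E ⋊[act K E] K).left = 1 := by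
      rw [inv_inv, mul_assoc]
      show act K E q.1.right⁻¹ q.1.left⁻¹ * act K E q.1.right⁻¹ (h * q).1.left = 1
      rw [hq h hh, ← _root_.map_mul, inv_mul_cancel, _root_.map_one]
    refine ⟨h1, ?_⟩
    have h2 := (q⁻¹ * h * q⁻¹⁻¹ : ↥(Γ.grp v₀)).2
    rw [mem_grp, h1, conn_one] at h2
    exact h2.symm
  obtain ⟨h0, hmax⟩ := Finite.exists_max fun h : H => FreeGroup.norm h.1.1.left
  let ε : H →* Multiplicative ℤ := MonoidHom.mk' (fun h => exponentSum h.1.1.left) fun a b => by
    show exponentSum (a.1.1.left * act K E a.1.1.right b.1.1.left) = _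
    rw [_root_.map_mul, exponentSum_act]
  have hε : ∀ h : H, ε h = 1 := fun h => by
    have h1 : ε h ^ orderOf h = 1 := by rw [← _root_.map_pow, pow_orderOf_eq_one, _root_.map_one]
    have h2 : orderOf h * Multiplicative.toAdd (ε h) = (0 : ℤ) := by
      have h3 := congrArg Multiplicative.toAdd h1
      rw [toAdd_pow, toAdd_one, nsmul_eq_mul] at h3
      exact h3
    have hpos : (orderOf h : ℤ) ≠ 0 := by exact_mod_cast (orderOf_pos h).ne'
    have h4 := (mul_eq_zero.1 h2).resolve_left hpos
    exact Multiplicative.toAdd.injective h4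
  obtain ⟨r, hr⟩ := norm_parity (x := h0.1.1.left) (hε h0)
  let O : Set (FreeGroup E) := Set.range fun h : H => h.1.1.left
  have hdiff : ∀ a b : H, a.1.1.left⁻¹ * b.1.1.left = act K E a.1.1.right (a⁻¹ * b : H).1.1.left := by
    intro a b
    have e : b.1.1.left = a.1.1.left * act K E a.1.1.right (a⁻¹ * b : H).1.1.left := by
      conv_lhs => rw [show b = a * (a⁻¹ * b) from (mul_inv_cancel_left a b).symm]
      rfl
    rw [e, inv_mul_cancel_left]
  have hD : ∀ a ∈ O, ∀ b ∈ O, FreeGroup.norm (a⁻¹ * b) ≤ 2 * r := by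
    rintro _ ⟨a, rfl⟩ _ ⟨b, rfl⟩
    show FreeGroup.norm (a.1.1.left⁻¹ * b.1.1.left) ≤ 2 * r
    rw [hdiff, norm_act, ← hr]
    exact hmax _
  obtain ⟨hc, huniq⟩ := exists_center (O := O) hr ⟨h0, rfl⟩ ⟨1, rfl⟩ hD
  obtain ⟨u, hu, -⟩ := Γ.path_append.1
    (show Γ.Path v₀ (h0.1.1.left.toWord.take r ++ h0.1.1.left.toWord.drop r) (h0.1.1.right • v₀) by
      rw [List.take_append_drop]; exact h0.1.2)
  set c := FreeGroup.mk (h0.1.1.left.toWord.take r) with hcdef
  obtain ⟨k, hk⟩ := MulAction.exists_smul_eq K v₀ u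
  refine ⟨⟨⟨c, k⟩, by rw [mem_grp, hk]; exact Γ.conn_mk hu⟩, fun h hh => ?_⟩
  show h.1.left * act K E h.1.right c = c
  set hH : H := ⟨h, hh⟩ with hHdef
  have key : ∀ z : H, FreeGroup.norm ((h.1.left * act K E h.1.right c)⁻¹ * z.1.1.left) ≤ r := by
    intro z
    have e : z.1.1.left = h.1.left * act K E h.1.right (hH⁻¹ * z : H).1.1.left := by
      conv_lhs => rw [show z = hH * (hH⁻¹ * z) from (mul_inv_cancel_left hH z).symm]
      rfl
    rw [e, mul_inv_rev, mul_assoc, inv_mul_cancel_left, ← _root_.map_inv, ← _root_.map_mul, norm_act]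
    exact hc _ ⟨_, rfl⟩
  refine huniq _ ?_ (key h0)
  have := key 1
  change FreeGroup.norm ((h.1.left * act K E h.1.right c)⁻¹ * 1) ≤ r at this
  rwa [mul_one, norm_inv_eq] at this

/-- An element fixing a class fixes each letter of its word. -/
theorem fixed_word {k : K} {w : FreeGroup E} (h : act K E k w = w) :
    ∀ x ∈ w.toWord, k • x.1 = x.1 := by
  intro x hx
  have e := toWord_act k w
  rw [h] at e
  obtain ⟨i, hi, rfl⟩ := List.getElem_of_mem hx
  have e2 : w.toWord[i]? = (w.toWord.map fun y : E × Bool => (k • y.1, y.2))[i]? :=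
    congrArg (fun L : List (E × Bool) => L[i]?) e
  rw [List.getElem?_map, List.getElem?_eq_getElem hi] at e2
  simp only [Option.map_some, Option.some.injEq] at e2
  exact (congrArg Prod.fst e2).symm

end Graph

end Cfsg.Agent.FreeRealize
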