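import Cfsg.Agent.Lib.FreeRealize.Graph
import Cfsg.Agent.Lib.Fusion.Basic
import Mathlib.GroupTheory.Perm.Finite

/-
Every fusion system over a finite group is realized by a group with a free normal subgroup of
index dividing `(#S)!`, in which every finite subgroup is conjugate into `S`.
Main results: `exists_perm_equivariant`, `exists_realizing`.
-/

set_option autoImplicit false

open scoped Classical

namespace Cfsg.Agent.FreeRealize

open Cfsg Cfsg.FusionSystem Cfsg.Agent.Fusion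

universe u

/-- Two free right actions of one finite group are intertwined by a permutation. -/
theorem exists_perm_equivariant {G : Type*} [Group G] [Finite G] (A : Subgroup G) (f : A →* G)
    (hf : Function.Injective f) :
    ∃ σ : Equiv.Perm G, ∀ (z : G) (a : A), σ (z * a) = σ z * f a := by
  have hbij : ∀ B : Subgroup G,
      Function.Bijective fun y : (G ⧸ B) × B => y.1.out * (y.2 : G) := by
    intro B
    refine ⟨?_, fun z => ?_⟩
    · rintro ⟨q, a⟩ ⟨q', a'⟩ h
      have e : q = q' := by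
        have h' := congrArg (QuotientGroup.mk : G → G ⧸ B) h
        simpa [QuotientGroup.mk_mul_of_mem, QuotientGroup.out_eq'] using h'
      subst e
      simpa using h
    · refine ⟨((z : G ⧸ B), ⟨(z : G ⧸ B).out⁻¹ * z, ?_⟩), mul_inv_cancel_left _ _⟩
      rw [← QuotientGroup.eq]
      exact QuotientGroup.out_eq' _
  let eA := Equiv.ofBijective _ (hbij A)
  let eB := Equiv.ofBijective _ (hbij f.range)
  let fe := (MonoidHom.ofInjective hf).toEquiv
  have hcard : Nat.card (G ⧸ A) = Nat.card (G ⧸ f.range) := by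
    have h1 := Nat.card_congr eA
    have h2 := Nat.card_congr eB
    rw [Nat.card_prod] at h1 h2
    rw [← Nat.card_congr fe, ← h1] at h2
    exact (Nat.eq_of_mul_eq_mul_right Nat.card_pos h2).symm
  obtain ⟨π⟩ := Finite.card_eq.1 hcard
  refine ⟨eA.symm.trans ((π.prodCongr fe).trans eB), fun z a => ?_⟩
  obtain ⟨⟨q, b⟩, rfl⟩ := eA.surjective z
  have e : eA (q, b * a) = eA (q, b) * a := by
    simp [eA, mul_assoc]
  rw [← e]
  simp [eB, fe, mul_assoc]
  rfl

variable {Ω : Type u} [Group Ω] {S : Subgroup Ω}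

/-- `S` acting on itself by inverse right translation. -/
def regHom (S : Subgroup Ω) : ↥S →* Equiv.Perm ↥S where
  toFun s := Equiv.mulRight s⁻¹
  map_one' := by ext z; simp
  map_mul' a b := by ext z; simp [mul_assoc]

theorem regHom_injective (S : Subgroup Ω) : Function.Injective (regHom S) := by
  intro a b h
  simpa [regHom] using DFunLike.congr_fun h 1

/-- A map of the system as an index. -/
abbrev Idx (F : FusionSystem S) : Type u := (P : Subgroup Ω) × ↥(F.Hom P)

/-- A map of the system on the subgroup of `S`. -/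
def idxHom {F : FusionSystem S} (i : Idx F) : ↥(i.1.subgroupOf S) →* ↥S :=
  (i.2.1.comp
    (Subgroup.subgroupOfEquivOfLe (F.le_of_mem i.2.2).1).toMonoidHom).codRestrict S
    fun _ => (F.le_of_mem i.2.2).2 _

theorem idxHom_injective {F : FusionSystem S} (i : Idx F) : Function.Injective (idxHom i) := by
  intro a b h
  have h' : i.2.1 (Subgroup.subgroupOfEquivOfLe (F.le_of_mem i.2.2).1 a) =
      i.2.1 (Subgroup.subgroupOfEquivOfLe (F.le_of_mem i.2.2).1 b) := congrArg Subtype.val h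
  exact (Subgroup.subgroupOfEquivOfLe (F.le_of_mem i.2.2).1).injective
    (F.injective_of_mem i.2.2 h')

/-- The permutation inducing the map. -/
noncomputable def sigmaPerm [Finite S] {F : FusionSystem S} (i : Idx F) : Equiv.Perm ↥S :=
  Classical.choose (exists_perm_equivariant _ _ (idxHom_injective i))

theorem sigmaPerm_comm [Finite S] {F : FusionSystem S} (i : Idx F) {x : ↥S}
    (hx : (x : Ω) ∈ i.1) :
    sigmaPerm i * regHom S x =
      regHom S ⟨i.2.1 ⟨x, hx⟩, (F.le_of_mem i.2.2).2 _⟩ * sigmaPerm i := by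
  have h := Classical.choose_spec (exists_perm_equivariant _ _ (idxHom_injective i))
  ext z
  show ((sigmaPerm i (z * x⁻¹) : ↥S) : Ω) =
    ((sigmaPerm i z * (⟨i.2.1 ⟨x, hx⟩, (F.le_of_mem i.2.2).2 _⟩ : ↥S)⁻¹ : ↥S) : Ω)
  have h' := h (z * x⁻¹) ⟨x, hx⟩
  rw [inv_mul_cancel_right] at h'
  have e : idxHom i ⟨x, hx⟩ = ⟨i.2.1 ⟨x, hx⟩, (F.le_of_mem i.2.2).2 _⟩ := rfl
  rw [e] at h'
  unfold sigmaPerm
  rw [h', mul_inv_cancel_right]

/-- The vertices. -/
abbrev Vtx (S : Subgroup Ω) : Type u := Equiv.Perm ↥S ⧸ (regHom S).range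

/-- The stabiliser of the edge of a map. -/
abbrev edgeGrp {F : FusionSystem S} (i : Idx F) : Subgroup (Equiv.Perm ↥S) :=
  (i.1.subgroupOf S).map (regHom S)

/-- The edges. -/
structure Edge (F : FusionSystem S) : Type u where
  idx : Idx F
  cls : Equiv.Perm ↥S ⧸ edgeGrp idx

instance (F : FusionSystem S) : MulAction (Equiv.Perm ↥S) (Edge F) where
  smul k e := ⟨e.idx, k • e.cls⟩
  one_smul e := by
    cases e with
    | mk i q => exact congrArg (Edge.mk i) (one_smul _ q)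
  mul_smul a b e := by
    cases e with
    | mk i q => exact congrArg (Edge.mk i) (mul_smul a b q)

/-- The source of an edge. -/
def srcMap {F : FusionSystem S} (i : Idx F) :
    Equiv.Perm ↥S ⧸ edgeGrp i → Vtx S :=
  Quotient.map' id fun a b h => by
    rw [QuotientGroup.leftRel_apply] at h ⊢
    obtain ⟨x, -, hx⟩ := h
    exact ⟨x, hx⟩

/-- The target of an edge. -/
noncomputable def tgtMap [Finite S] {F : FusionSystem S} (i : Idx F) :
    Equiv.Perm ↥S ⧸ edgeGrp i → Vtx S :=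
  Quotient.map' (fun k => k * (sigmaPerm i)⁻¹) fun a b h => by
    rw [QuotientGroup.leftRel_apply] at h ⊢
    obtain ⟨x, hx, e⟩ := h
    refine ⟨⟨i.2.1 ⟨x, hx⟩, (F.le_of_mem i.2.2).2 _⟩, ?_⟩
    rw [mul_inv_rev, inv_inv, mul_assoc, ← mul_assoc a⁻¹, ← e, ← mul_assoc,
      sigmaPerm_comm i hx, mul_inv_cancel_right]

/-- The graph. -/
noncomputable def graph [Finite S] (F : FusionSystem S) :
    Graph (Equiv.Perm ↥S) (Vtx S) (Edge F) where
  src e := srcMap e.idx e.cls
  tgt e := tgtMap e.idx e.cls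
  src_smul k e := by
    cases e with
    | mk i q =>
      obtain ⟨m, rfl⟩ := QuotientGroup.mk_surjective q
      rfl
  tgt_smul k e := by
    cases e with
    | mk i q =>
      obtain ⟨m, rfl⟩ := QuotientGroup.mk_surjective q
      exact congrArg QuotientGroup.mk (mul_assoc k m _)

/-- The base vertex. -/
abbrev base (S : Subgroup Ω) : Vtx S := ((1 : Equiv.Perm ↥S) : Vtx S)

theorem smul_base_iff {a : Equiv.Perm ↥S} : a • base S = base S ↔ a ∈ (regHom S).range := by
  show ((a * 1 : Equiv.Perm ↥S) : Vtx S) = ((1 : Equiv.Perm ↥S) : Vtx S) ↔ _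
  rw [QuotientGroup.eq, mul_one, mul_one, inv_mem_iff]

variable [Finite S] {F : FusionSystem S}

/-- Along a path fixed by `x ↦ regHom x`, the local maps compose to maps of the system. -/
theorem path_map {P : Subgroup Ω} (hP : P ≤ S) :
    ∀ (L : List (Edge F × Bool)) (v : Vtx S) (χ : Ω → Ω) (k : Equiv.Perm ↥S),
      IsMap F P χ → (graph F).Path (k : Vtx S) L v →
      (∀ y ∈ L, ∀ (x : Ω) (hx : x ∈ P), regHom S ⟨x, hP hx⟩ • y.1 = y.1) →
      (∀ (x : Ω) (hx : x ∈ P) (hχ : χ x ∈ S),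
        k * regHom S ⟨χ x, hχ⟩ = regHom S ⟨x, hP hx⟩ * k) →
      ∃ (χ' : Ω → Ω) (k' : Equiv.Perm ↥S), IsMap F P χ' ∧ (k' : Vtx S) = v ∧
        ∀ (x : Ω) (hx : x ∈ P) (hχ : χ' x ∈ S),
          k' * regHom S ⟨χ' x, hχ⟩ = regHom S ⟨x, hP hx⟩ * k' := by
  intro L
  induction L with
  | nil => intro v χ k hχ hp _ hk; exact ⟨χ, k, hχ, hp, hk⟩
  | cons y L ih =>
    intro v χ k hχ hp hfix hk
    obtain ⟨⟨i, q⟩, b⟩ := y
    obtain ⟨m, rfl⟩ := QuotientGroup.mk_surjective q
    -- the stabiliser condition on the edge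
    have hst : ∀ (x : Ω) (hx : x ∈ P), ∃ (a : ↥S) (_ : (a : Ω) ∈ i.1),
        regHom S ⟨x, hP hx⟩ * m = m * regHom S a := by
      intro x hx
      have h := hfix _ (List.mem_cons_self ..) x hx
      have h' : ((regHom S ⟨x, hP hx⟩ * m : Equiv.Perm ↥S) : Equiv.Perm ↥S ⧸ edgeGrp i) =
          (m : Equiv.Perm ↥S ⧸ edgeGrp i) := by
        injection h
      obtain ⟨a, ha, e⟩ := QuotientGroup.eq.1 h'.symm
      refine ⟨a, ha, ?_⟩
      rw [e, mul_inv_cancel_left]
    choose a ha hax using hst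
    cases b with
    | true =>
      obtain ⟨hs, hp'⟩ := hp
      have hs' : ((m : Equiv.Perm ↥S) : Vtx S) = (k : Vtx S) := hs
      obtain ⟨s, hs⟩ := QuotientGroup.eq.1 hs'
      have hkm : k = m * regHom S s := by rw [hs, mul_inv_cancel_left]
      have hval : ∀ (x : Ω) (hx : x ∈ P), (s : Ω) * χ x * (s : Ω)⁻¹ = a x hx := by
        intro x hx
        have h1 := hk x hx (hχ.mem hx)
        rw [hkm, ← mul_assoc (regHom S _) m, hax x hx, mul_assoc m, mul_assoc m, ← map_mul,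
          ← map_mul] at h1
        have h2 := congrArg Subtype.val (regHom_injective S (mul_left_cancel h1))
        push_cast at h2
        rw [h2, mul_inv_cancel_right]
      have hm1 : IsMap F P fun x => toFn i.2.1 ((s : Ω) * χ x * (s : Ω)⁻¹) :=
        (hχ.comp (IsMap.conj le_rfl s.2) fun x hx => hχ.mem hx).comp (isMap_toFn i.2.2)
          fun x hx => hval x hx ▸ ha x hx
      refine ih v _ (m * (sigmaPerm i)⁻¹) hm1 hp'
        (fun y hy => hfix y (List.mem_cons_of_mem _ hy)) fun x hx hχ' => ?_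
      have e : toFn i.2.1 ((s : Ω) * χ x * (s : Ω)⁻¹) = i.2.1 ⟨a x hx, ha x hx⟩ := by
        rw [hval x hx, toFn_apply]
      have e' : (⟨toFn i.2.1 ((s : Ω) * χ x * (s : Ω)⁻¹), hχ'⟩ : ↥S) =
          ⟨i.2.1 ⟨a x hx, ha x hx⟩, (F.le_of_mem i.2.2).2 _⟩ := Subtype.ext e
      have h2 := sigmaPerm_comm i (ha x hx)
      rw [e', ← mul_assoc (regHom S _), hax x hx, mul_assoc m, mul_assoc m]
      congr 1
      rw [eq_mul_inv_iff_mul_eq, mul_assoc, ← h2, inv_mul_cancel_left]
    | false =>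
      obtain ⟨hs, hp'⟩ := hp
      have hs' : ((m * (sigmaPerm i)⁻¹ : Equiv.Perm ↥S) : Vtx S) = (k : Vtx S) := hs
      obtain ⟨s, hs⟩ := QuotientGroup.eq.1 hs'
      have hkm : k = m * (sigmaPerm i)⁻¹ * regHom S s := by rw [hs, mul_inv_cancel_left]
      obtain ⟨inv, hinv, hinvl, -⟩ := (IsMap.isIso (isMap_toFn i.2.2)).symm
      have hval : ∀ (x : Ω) (hx : x ∈ P),
          (s : Ω) * χ x * (s : Ω)⁻¹ = i.2.1 ⟨a x hx, ha x hx⟩ := by
        intro x hx
        have h2 := sigmaPerm_comm i (ha x hx)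
        have h1 : regHom S (s * ⟨χ x, hχ.mem hx⟩) =
            regHom S (⟨i.2.1 ⟨a x hx, ha x hx⟩, (F.le_of_mem i.2.2).2 _⟩ * s) := by
          apply mul_left_cancel (a := m * (sigmaPerm i)⁻¹)
          rw [map_mul, ← mul_assoc, ← hkm, hk x hx (hχ.mem hx), hkm, map_mul]
          have h3 : regHom S ⟨x, hP hx⟩ * (m * (sigmaPerm i)⁻¹) =
              m * (sigmaPerm i)⁻¹ *
                regHom S ⟨i.2.1 ⟨a x hx, ha x hx⟩, (F.le_of_mem i.2.2).2 _⟩ := by
            rw [← mul_assoc, hax x hx, mul_assoc m, mul_assoc m]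
            congr 1
            rw [eq_inv_mul_iff_mul_eq, ← mul_assoc, h2, mul_inv_cancel_right]
          rw [← mul_assoc, h3]
          group
        have h4 := congrArg Subtype.val (regHom_injective S h1)
        push_cast at h4
        rw [h4, mul_inv_cancel_right]
      have hm1 : IsMap F P fun x => inv ((s : Ω) * χ x * (s : Ω)⁻¹) := by
        refine (hχ.comp (IsMap.conj le_rfl s.2) fun x hx => hχ.mem hx).comp hinv.1 fun x hx => ?_
        rw [hval x hx, ← toFn_apply i.2.1 (ha x hx)]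
        exact (isMap_toFn i.2.2).mem_img (ha x hx)
      refine ih v _ m hm1 hp' (fun y hy => hfix y (List.mem_cons_of_mem _ hy)) fun x hx hχ' => ?_
      have e : inv ((s : Ω) * χ x * (s : Ω)⁻¹) = a x hx := by
        rw [hval x hx, ← toFn_apply i.2.1 (ha x hx), hinvl _ (ha x hx)]
      rw [show (⟨inv ((s : Ω) * χ x * (s : Ω)⁻¹), hχ'⟩ : ↥S) = a x hx from Subtype.ext e,
        hax x hx]

theorem exists_realizing (F : FusionSystem S) :
    ∃ (G : Type u) (_ : Group G) (ι : ↥S →* G), F.IsRealizedBy ι ∧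
      (∀ H : Subgroup G, Finite ↥H → ∃ g : G, ∀ h ∈ H, g * h * g⁻¹ ∈ ι.range) ∧
      ∃ N : Subgroup G, N.Normal ∧ IsFreeGroup ↥N ∧ N.index ∣ (Nat.card ↥S).factorial := by
  let Γ := graph F
  let ι : ↥S →* ↥(Γ.grp (base S)) :=
    (SemidirectProduct.inr.comp (regHom S)).codRestrict _ fun s => by
      rw [Graph.mem_grp]
      show Γ.Conn _ 1 (regHom S s • base S)
      rw [Graph.conn_one]
      exact (smul_base_iff.2 ⟨s, rfl⟩).symm
  have hιl : ∀ s, (ι s).1.left = 1 := fun s => rfl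
  have hιr : ∀ s, (ι s).1.right = regHom S s := fun s => rfl
  have hιinj : Function.Injective ι := fun a b h =>
    regHom_injective S (by rw [← hιr, ← hιr, h])
  refine ⟨↥(Γ.grp (base S)), inferInstance, ι, ⟨hιinj, fun P hP φ hφ => ⟨fun hmem => ?_, ?_⟩⟩,
    fun H hH => ?_, (Γ.proj (base S)).ker, MonoidHom.normal_ker _, (Γ.grp_kernel _).1, ?_⟩
  · set i : Idx F := ⟨P, φ, hmem⟩ with hi
    let e : Edge F := ⟨i, ((1 : Equiv.Perm ↥S) : _ ⧸ edgeGrp i)⟩
    let q : ↥(Γ.grp (base S)) := ⟨⟨FreeGroup.of e, (sigmaPerm i)⁻¹⟩, by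
      rw [Graph.mem_grp]
      show Γ.Path _ (FreeGroup.of e).toWord _
      rw [FreeGroup.toWord_of]
      refine ⟨rfl, ?_⟩
      show ((1 * (sigmaPerm i)⁻¹ : Equiv.Perm ↥S) : Vtx S) =
        (((sigmaPerm i)⁻¹ * 1 : Equiv.Perm ↥S) : Vtx S)
      rw [one_mul, mul_one]⟩
    refine ⟨q⁻¹, fun x => ?_⟩
    rw [inv_inv, eq_comm, mul_assoc, inv_mul_eq_iff_eq_mul]
    refine Subtype.ext (SemidirectProduct.ext ?_ ?_)
    · show 1 * Graph.act (Equiv.Perm ↥S) (Edge F) (regHom S ⟨x, hP x.2⟩) (FreeGroup.of e) =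
        FreeGroup.of e * Graph.act (Equiv.Perm ↥S) (Edge F) (sigmaPerm i)⁻¹ 1
      rw [_root_.map_one, mul_one, one_mul, Graph.act_apply, FreeGroup.map.of]
      congr 1
      show Edge.mk i ((regHom S ⟨x, hP x.2⟩ * 1 : Equiv.Perm ↥S) : _ ⧸ edgeGrp i) = _
      refine congrArg (Edge.mk i) (QuotientGroup.eq.2 ?_)
      rw [mul_one, mul_one, inv_mem_iff]
      exact ⟨⟨x, hP x.2⟩, x.2, rfl⟩
    · show regHom S ⟨x, hP x.2⟩ * (sigmaPerm i)⁻¹ = (sigmaPerm i)⁻¹ * regHom S ⟨φ x, hφ x⟩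
      have h2 := sigmaPerm_comm i (x := ⟨x, hP x.2⟩) x.2
      rw [eq_inv_mul_iff_mul_eq, ← mul_assoc, h2, mul_inv_cancel_right]
  · rintro ⟨g, hg⟩
    obtain ⟨q, rfl⟩ : ∃ q, g = q⁻¹ := ⟨g⁻¹, (inv_inv g).symm⟩
    have hq : ∀ x : P, ι ⟨x, hP x.2⟩ * q = q * ι ⟨φ x, hφ x⟩ := fun x => by
      rw [hg x, inv_inv]
      group
    have hleft : ∀ x : P,
        Graph.act (Equiv.Perm ↥S) (Edge F) (regHom S ⟨x, hP x.2⟩) q.1.left = q.1.left := by
      intro x
      have h1 : 1 * Graph.act (Equiv.Perm ↥S) (Edge F) (regHom S ⟨x, hP x.2⟩) q.1.left =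
          q.1.left * Graph.act (Equiv.Perm ↥S) (Edge F) q.1.right 1 :=
        congrArg (fun g : ↥(Γ.grp (base S)) => g.1.left) (hq x)
      rwa [_root_.map_one, mul_one, one_mul] at h1
    obtain ⟨χ, k, hχ, hk, hkx⟩ := path_map hP q.1.left.toWord (q.1.right • base S)
      (fun x => x) 1 (IsMap.id hP) q.2
      (fun y hy x hx => Graph.fixed_word (hleft ⟨x, hx⟩) y hy) fun x hx _ => by
        rw [one_mul, mul_one]
    have hk' : ((k : Equiv.Perm ↥S) : Vtx S) = ((q.1.right * 1 : Equiv.Perm ↥S) : Vtx S) := hk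
    rw [mul_one, eq_comm, QuotientGroup.eq] at hk'
    obtain ⟨s, hs⟩ := hk'
    have hkeq : k = q.1.right * regHom S s := by rw [hs, mul_inv_cancel_left]
    refine mem_of_isMap (hχ.comp (IsMap.conj le_rfl s.2) fun x hx => hχ.mem hx) fun x => ?_
    have h1 := hkx x x.2 (hχ.mem x.2)
    have hr : regHom S ⟨x, hP x.2⟩ * q.1.right = q.1.right * regHom S ⟨φ x, hφ x⟩ :=
      congrArg (fun g : ↥(Γ.grp (base S)) => g.1.right) (hq x)
    rw [hkeq, ← mul_assoc, hr, mul_assoc, mul_assoc, ← map_mul, ← map_mul] at h1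
    have h2 := congrArg Subtype.val (regHom_injective S (mul_left_cancel h1))
    push_cast at h2
    show φ x = (s : Ω) * χ x * (s : Ω)⁻¹
    rw [h2, mul_inv_cancel_right]
  · obtain ⟨g, hg⟩ := Γ.exists_conj_finite (base S) H
    refine ⟨g, fun h hh => ?_⟩
    obtain ⟨hl, hr⟩ := hg h hh
    obtain ⟨s, hs⟩ := smul_base_iff.1 hr
    exact ⟨s, Subtype.ext (SemidirectProduct.ext ((hιl s).trans hl.symm) ((hιr s).trans hs))⟩
  · have := (Γ.grp_kernel (base S)).2
    rwa [Nat.card_perm] at this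

end Cfsg.Agent.FreeRealize
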