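import Cfsg.Agent.EqLemmas
import Mathlib.GroupTheory.FreeGroup.Reduce

/-
Word geometry in free groups: parity of the norm and the centre of a bounded set of elements.
Main results: `toWord_map`, `norm_map`, `exponentSum`, `norm_parity`, `exists_center`.
-/

set_option autoImplicit false

namespace Cfsg.Agent.FreeRealize

open FreeGroup

variable {α β : Type*}

theorem toWord_map [DecidableEq α] [DecidableEq β] {f : α → β} (hf : Function.Injective f)
    (x : FreeGroup α) :
    (FreeGroup.map f x).toWord = x.toWord.map fun y => (f y.1, y.2) := by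
  conv_lhs => rw [← mk_toWord (x := x), FreeGroup.map.mk, toWord_mk]
  refine FreeGroup.IsReduced.reduce_eq ?_
  have h : FreeGroup.IsReduced x.toWord := isReduced_toWord
  unfold FreeGroup.IsReduced at h ⊢
  rw [List.isChain_map]
  exact h.imp fun a b hab e => hab (hf e)

theorem norm_map [DecidableEq α] [DecidableEq β] {f : α → β} (hf : Function.Injective f)
    (x : FreeGroup α) : norm (FreeGroup.map f x) = norm x := by
  simp [FreeGroup.norm, toWord_map hf]

/-- The exponent sum. -/
def exponentSum : FreeGroup α →* Multiplicative ℤ :=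
  FreeGroup.lift fun _ => Multiplicative.ofAdd 1

theorem exponentSum_of (a : α) : exponentSum (FreeGroup.of a) = Multiplicative.ofAdd 1 :=
  FreeGroup.lift_apply_of

theorem exponentSum_map (f : α → β) (x : FreeGroup α) :
    exponentSum (FreeGroup.map f x) = exponentSum x := by
  have h : (exponentSum (α := β)).comp (FreeGroup.map f) = exponentSum := by
    refine FreeGroup.ext_hom _ _ fun a => ?_
    simp [exponentSum_of]
  exact DFunLike.congr_fun h x

theorem exponentSum_mk (L : List (α × Bool)) :
    ∃ k : ℤ, Multiplicative.toAdd (exponentSum (mk L)) = L.length - 2 * k := by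
  induction L with
  | nil => exact ⟨0, by simp [← FreeGroup.one_eq_mk]⟩
  | cons x L ih =>
    obtain ⟨k, hk⟩ := ih
    have e : mk (x :: L) = mk [x] * mk L := by rw [mul_mk]; rfl
    obtain ⟨a, b⟩ := x
    cases b
    · refine ⟨k + 1, ?_⟩
      have e' : mk [(a, false)] = (FreeGroup.of a)⁻¹ := rfl
      rw [e, _root_.map_mul, toAdd_mul, hk, e', _root_.map_inv, exponentSum_of, toAdd_inv, toAdd_ofAdd,
        List.length_cons]
      push_cast
      ring
    · refine ⟨k, ?_⟩
      have e' : mk [(a, true)] = FreeGroup.of a := rfl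
      rw [e, _root_.map_mul, toAdd_mul, hk, e', exponentSum_of, toAdd_ofAdd, List.length_cons]
      push_cast
      ring

theorem norm_parity [DecidableEq α] {x : FreeGroup α} (h : exponentSum x = 1) :
    ∃ r, norm x = 2 * r := by
  obtain ⟨k, hk⟩ := exponentSum_mk x.toWord
  rw [mk_toWord, h, toAdd_one] at hk
  have : (x.toWord.length : ℤ) = 2 * k := by omega
  exact ⟨k.toNat, by simp [FreeGroup.norm]; omega⟩

theorem exists_common_prefix [DecidableEq α] : ∀ W Z : List α, ∃ P W' Z',
    W = P ++ W' ∧ Z = P ++ Z' ∧ ∀ a ∈ W'.head?, ∀ b ∈ Z'.head?, a ≠ b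
  | [], Z => ⟨[], [], Z, rfl, rfl, by simp⟩
  | a :: W, [] => ⟨[], a :: W, [], rfl, rfl, by simp⟩
  | a :: W, b :: Z => by
    rcases eq_or_ne a b with rfl | hne
    · obtain ⟨P, W', Z', rfl, rfl, h⟩ := exists_common_prefix W Z
      exact ⟨a :: P, W', Z', rfl, rfl, h⟩
    · exact ⟨[], a :: W, b :: Z, rfl, rfl, by simpa using hne⟩

theorem norm_inv_mul [DecidableEq α] {W Z : List (α × Bool)} (hW : FreeGroup.IsReduced W)
    (hZ : FreeGroup.IsReduced Z) (h : ∀ a ∈ W.head?, ∀ b ∈ Z.head?, a ≠ b) :
    norm ((mk W)⁻¹ * mk Z) = W.length + Z.length := by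
  have hW' : FreeGroup.IsReduced (invRev W) :=
    FreeGroup.IsReduced.of_reduce_eq (by rw [reduce_invRev, hW.reduce_eq])
  have hred : FreeGroup.IsReduced (invRev W ++ Z) := by
    unfold FreeGroup.IsReduced
    rw [List.isChain_append]
    refine ⟨hW', hZ, fun x hx y hy e => ?_⟩
    have hhead : ∃ a ∈ W.head?, x = (a.1, !a.2) := by
      cases W with
      | nil => simp [invRev] at hx
      | cons a W =>
        refine ⟨a, rfl, ?_⟩
        simp [invRev] at hx
        exact hx.symm
    obtain ⟨a, ha, rfl⟩ := hhead
    have hne := h a ha y hy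
    obtain ⟨a1, a2⟩ := a
    obtain ⟨y1, y2⟩ := y
    simp only at e ⊢
    subst e
    cases a2 <;> cases y2 <;> simp_all
  rw [inv_mk, mul_mk, FreeGroup.norm, toWord_mk, hred.reduce_eq, List.length_append,
    invRev_length]

/-- A set of elements of diameter `2 r`, attained at `1` and `W`, has a unique centre. -/
theorem exists_center [DecidableEq α] {O : Set (FreeGroup α)} {W : FreeGroup α} {r : ℕ}
    (hW : norm W = 2 * r) (hWO : W ∈ O) (h1 : 1 ∈ O)
    (hD : ∀ a ∈ O, ∀ b ∈ O, norm (a⁻¹ * b) ≤ 2 * r) :
    (∀ z ∈ O, norm ((mk (W.toWord.take r))⁻¹ * z) ≤ r) ∧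
      ∀ c : FreeGroup α, norm c ≤ r → norm (c⁻¹ * W) ≤ r → c = mk (W.toWord.take r) := by
  unfold FreeGroup.norm at hW
  refine ⟨fun z hz => ?_, fun c hc hc' => ?_⟩
  · obtain ⟨P, W', Z', eW, eZ, hne⟩ := exists_common_prefix W.toWord z.toWord
    have hWl : P.length + W'.length = 2 * r := by rw [← hW, eW, List.length_append]
    have hZl : P.length + Z'.length ≤ 2 * r := by
      have := hD 1 h1 z hz
      rw [inv_one, one_mul] at this
      rwa [FreeGroup.norm, eZ, List.length_append] at this
    have hex : W'.length + Z'.length ≤ 2 * r := by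
      have := hD W hWO z hz
      rw [← mk_toWord (x := W), ← mk_toWord (x := z), eW, eZ, ← mul_mk, ← mul_mk, mul_inv_rev,
        mul_assoc, inv_mul_cancel_left] at this
      rwa [norm_inv_mul ((isReduced_toWord (x := W)).infix ⟨P, [], by simp [eW]⟩)
        ((isReduced_toWord (x := z)).infix ⟨P, [], by simp [eZ]⟩) hne] at this
    rcases le_or_gt r P.length with hr | hr
    · have e : W.toWord.take r = P.take r := by rw [eW, List.take_append_of_le_length hr]
      have ez : z = mk (P.take r) * mk (P.drop r ++ Z') := by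
        rw [mul_mk, ← List.append_assoc, List.take_append_drop, ← eZ, mk_toWord]
      rw [e, ez, inv_mul_cancel_left]
      refine norm_mk_le.trans ?_
      rw [List.length_append, List.length_drop]
      omega
    · have e : W.toWord.take r = P ++ W'.take (r - P.length) := by
        rw [eW, List.take_append, List.take_of_length_le hr.le]
      have ez : z = mk P * mk Z' := by rw [mul_mk, ← eZ, mk_toWord]
      rw [e, ez, ← mul_mk, mul_inv_rev, mul_assoc, inv_mul_cancel_left, inv_mk, mul_mk]
      refine norm_mk_le.trans ?_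
      rw [List.length_append, invRev_length, List.length_take]
      omega
  · have hsub : W.toWord.Sublist (c.toWord ++ (c⁻¹ * W).toWord) := by
      have := toWord_mul_sublist c (c⁻¹ * W)
      rwa [mul_inv_cancel_left] at this
    unfold FreeGroup.norm at hc hc'
    have hle := hsub.length_le
    rw [List.length_append] at hle
    have he := hsub.eq_of_length (by rw [List.length_append]; omega)
    rw [he, List.take_left' (by omega), mk_toWord]

end Cfsg.Agent.FreeRealize
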